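import Groth.Prelude.Def_HTor
import Mathlib.LinearAlgebra.TensorProduct.RightExactness
import Mathlib.Algebra.Homology.ConcreteCategory
import Mathlib.Algebra.Homology.ShortComplex.ModuleCat

/-!
# Elements of tensor products of complexes of modules and classes of cycles
-/

set_option autoImplicit false
universe u

open CategoryTheory CategoryTheory.Limits MonoidalCategory TensorProduct

namespace Groth.Agent.Der55.Kun

variable {A : Type u} [CommRing A]

section Cycles

variable (K : DRing.Cx A) {n : ℤ}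

theorem exists_cycle (x : K.X n) (hx : K.d n (n + 1) x = 0) :
    ∃ z : K.cycles n, K.iCycles n z = x :=
  ⟨K.cyclesMk x (n + 1) (by simp) hx, K.i_cyclesMk x (n + 1) (by simp) hx⟩

theorem iCycles_injective (n : ℤ) : Function.Injective (K.iCycles n).hom :=
  (ModuleCat.mono_iff_injective _).1 inferInstance

theorem d_iCycles (m : ℤ) (z : K.cycles n) : K.d n m (K.iCycles n z) = 0 := by
  show (K.iCycles n ≫ K.d n m).hom z = 0
  rw [HomologicalComplex.iCycles_d]; rfl

theorem homologyπ_surjective (n : ℤ) : Function.Surjective (K.homologyπ n).hom :=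
  (ModuleCat.epi_iff_surjective _).1 inferInstance

/-- A cycle class vanishes iff the cycle is a boundary. -/
theorem homologyπ_eq_zero_iff (m : ℤ) (h : m + 1 = n) (z : K.cycles n) :
    K.homologyπ n z = 0 ↔ ∃ x : K.X m, K.d m n x = K.iCycles n z := by
  have hex : (ShortComplex.mk (K.toCycles m n) (K.homologyπ n) (K.toCycles_comp_homologyπ m n)).Exact :=
    ShortComplex.exact_of_g_is_cokernel _ (K.homologyIsCokernel m n (by simp; omega))
  have := (ShortComplex.ShortExact.moduleCat_exact_iff_function_exact _).1 hex z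
  refine this.trans ⟨?_, ?_⟩
  · rintro ⟨x, rfl⟩
    exact ⟨x, congrArg (fun g => g.hom x) (K.toCycles_i m n).symm⟩
  · rintro ⟨x, hx⟩
    refine ⟨x, iCycles_injective K n ?_⟩
    rw [← hx]
    exact congrArg (fun g => g.hom x) (K.toCycles_i m n)

end Cycles

section Tm

variable (K L : DRing.Cx A)

/-- `x ⊗ y` in the summand `(i, j)` of the total complex, as a bilinear map. -/
noncomputable def tmι (i j n : ℤ) (h : i + j = n) :
    K.X i ⊗[A] L.X j →ₗ[A] (HTor.tensorCx K L).X n :=
  (HomologicalComplex.ιTensorObj K L i j n h).hom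

/-- `x ⊗ y` in the total complex. -/
noncomputable def tm {i j : ℤ} (n : ℤ) (h : i + j = n) (x : K.X i) (y : L.X j) :
    (HTor.tensorCx K L).X n :=
  tmι K L i j n h (x ⊗ₜ[A] y)

theorem ι_d (i j n m : ℤ) (h : i + j = n) (hm : n + 1 = m) :
    HomologicalComplex.ιTensorObj K L i j n h ≫ (HTor.tensorCx K L).d n m =
      (K.d i (i + 1) ▷ L.X j) ≫ HomologicalComplex.ιTensorObj K L (i + 1) j m (by omega) +
      i.negOnePow • ((K.X i ◁ L.d j (j + 1)) ≫ HomologicalComplex.ιTensorObj K L i (j + 1) m (by omega)) := by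
  have h1 : (ComplexShape.up ℤ).Rel i (i + 1) := rfl
  have h2 : (ComplexShape.up ℤ).Rel j (j + 1) := rfl
  dsimp [HTor.tensorCx, HomologicalComplex.tensorObj, HomologicalComplex.ιTensorObj]
  rw [HomologicalComplex.mapBifunctor.d_eq, Preadditive.comp_add,
    HomologicalComplex.mapBifunctor.ι_D₁, HomologicalComplex.mapBifunctor.ι_D₂,
    HomologicalComplex.mapBifunctor.d₁_eq K L (curriedTensor (ModuleCat.{u} A)) _ h1 j m
      (by show i + 1 + j = m; omega),
    HomologicalComplex.mapBifunctor.d₂_eq K L (curriedTensor (ModuleCat.{u} A)) _ i h2 m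
      (by show i + (j + 1) = m; omega)]
  simp

theorem d_tm {i j : ℤ} (n m : ℤ) (h : i + j = n) (hm : n + 1 = m) (x : K.X i) (y : L.X j) :
    (HTor.tensorCx K L).d n m (tm K L n h x y) =
      tm K L m (by omega) (K.d i (i + 1) x) y +
        (i.negOnePow : ℤ) • tm K L m (by omega) x (L.d j (j + 1) y) := by
  have := congrArg (fun g => g.hom (x ⊗ₜ[A] y)) (ι_d K L i j n m h hm)
  exact this

theorem d_tm' {i i' j j' : ℤ} (n m : ℤ) (h : i + j = n) (hm : n + 1 = m) (hi : i + 1 = i')
    (hj : j + 1 = j') (x : K.X i) (y : L.X j) :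
    (HTor.tensorCx K L).d n m (tm K L n h x y) =
      tm K L m (by omega) (K.d i i' x) y +
        (i.negOnePow : ℤ) • tm K L m (by omega) x (L.d j j' y) := by
  subst hi hj
  exact d_tm K L n m h hm x y

/-- Pure tensors generate each term of the total complex. -/
theorem hom_ext_tm {N : Type u} [AddCommGroup N] [Module A N] {n : ℤ}
    {f g : (HTor.tensorCx K L).X n →ₗ[A] N}
    (h : ∀ (i j : ℤ) (hij : i + j = n) (x : K.X i) (y : L.X j),
      f (tm K L n hij x y) = g (tm K L n hij x y)) : f = g := by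
  have : ModuleCat.ofHom f = ModuleCat.ofHom g :=
    HomologicalComplex.mapBifunctor.hom_ext fun i j hij =>
      ModuleCat.hom_ext (TensorProduct.ext' fun x y => h i j hij x y)
  exact congrArg (fun g => g.hom) this

/-- The map of tensor products induced by a map in the second variable. -/
noncomputable def lmap {L L' : DRing.Cx A} (K : DRing.Cx A) (φ : L ⟶ L') :
    HTor.tensorCx K L ⟶ HTor.tensorCx K L' :=
  HomologicalComplex.tensorHom (𝟙 K) φ

theorem lmap_tm {L L' : DRing.Cx A} (φ : L ⟶ L') {i j : ℤ} (n : ℤ) (h : i + j = n) (x : K.X i)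
    (y : L.X j) :
    (lmap K φ).f n (tm K L n h x y) = tm K L' n h x (φ.f j y) := by
  have h1 := HomologicalComplex.ι_mapBifunctorMap (𝟙 K) φ (curriedTensor (ModuleCat.{u} A))
    (ComplexShape.up ℤ) i j n h
  exact congrArg (fun g => g.hom (x ⊗ₜ[A] y)) h1

theorem cyclesMap_tm {L L' : DRing.Cx A} (φ : L ⟶ L') {i j : ℤ} (n : ℤ) (h : i + j = n)
    (x : K.X i) (y : L.X j) (w : (HTor.tensorCx K L).cycles n)
    (hw : (HTor.tensorCx K L).iCycles n w = tm K L n h x y) :
    (HTor.tensorCx K L').iCycles n (HomologicalComplex.cyclesMap (lmap K φ) n w) =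
      tm K L' n h x (φ.f j y) := by
  rw [← lmap_tm, ← hw]
  exact congrArg (fun g => g.hom w) (HomologicalComplex.cyclesMap_i (lmap K φ) n)

end Tm

end Groth.Agent.Der55.Kun
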