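import Groth.Agent.Der55.Kun.ZeroDiff
import Mathlib.Algebra.Homology.HomologySequence
import Mathlib.Algebra.Homology.HomologicalComplexAbelian

/-!
# Tensoring a short exact sequence with a complex of flat modules
-/

set_option autoImplicit false
set_option linter.style.haveILetI false
universe u

open CategoryTheory CategoryTheory.Limits MonoidalCategory TensorProduct

namespace Groth.Agent.Der55.Kun

variable {A : Type u} [CommRing A] (K : DRing.Cx A)

/-- `lmap` on components. -/
noncomputable def xSumMap {L L' : DRing.Cx A} (φ : L ⟶ L') (n : ℤ) :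
    XSum K L n →ₗ[A] XSum K L' n :=
  DirectSum.lmap fun ij => LinearMap.lTensor _ (φ.f ij.1.2).hom

theorem toSum_lmap {L L' : DRing.Cx A} (φ : L ⟶ L') (n : ℤ) (w : (HTor.tensorCx K L).X n) :
    toSum K L' n ((lmap K φ).f n w) = xSumMap K φ n (toSum K L n w) := by
  have : toSum K L' n ∘ₗ ((lmap K φ).f n).hom = xSumMap K φ n ∘ₗ toSum K L n :=
    hom_ext_tm K L fun i j h x y => by
      simp only [LinearMap.comp_apply]
      rw [lmap_tm, toSum_tm, toSum_tm, xSumMap, DirectSum.lmap_lof]
      rfl
  exact LinearMap.congr_fun this w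

theorem lmap_comp {L L' L'' : DRing.Cx A} (φ : L ⟶ L') (ψ : L' ⟶ L'') :
    lmap K (φ ≫ ψ) = lmap K φ ≫ lmap K ψ := by
  refine HomologicalComplex.hom_ext _ _ fun n =>
    ModuleCat.hom_ext (hom_ext_tm K L fun i j h x y => ?_)
  simp only [HomologicalComplex.comp_f, ModuleCat.hom_comp, LinearMap.comp_apply]
  rw [lmap_tm, lmap_tm, lmap_tm]
  rfl

theorem lmap_zero (L L' : DRing.Cx A) : lmap K (0 : L ⟶ L') = 0 := by
  refine HomologicalComplex.hom_ext _ _ fun n =>
    ModuleCat.hom_ext (hom_ext_tm K L fun i j h x y => ?_)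
  rw [lmap_tm]
  simp [tm]

variable (S : ShortComplex (DRing.Cx A))

/-- `K ⊗ S`. -/
noncomputable def tensorSC : ShortComplex (DRing.Cx A) :=
  ShortComplex.mk (lmap K S.f) (lmap K S.g) (by rw [← lmap_comp, S.zero, lmap_zero])

variable {S}

theorem tensorSC_shortExact (hK : DRing.TermwiseFlat K) (hS : S.ShortExact) :
    (tensorSC K S).ShortExact := by
  refine HomologicalComplex.shortExact_of_degreewise_shortExact _ fun n => ?_
  have hd : ∀ j : ℤ, (S.map (HomologicalComplex.eval _ _ j)).ShortExact := fun j =>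
    hS.map_of_exact (HomologicalComplex.eval _ _ j)
  have hf : ∀ j : ℤ, Function.Injective (S.f.f j).hom := fun j =>
    (ModuleCat.mono_iff_injective _).1 (hd j).mono_f
  have hg : ∀ j : ℤ, Function.Surjective (S.g.f j).hom := fun j =>
    (ModuleCat.epi_iff_surjective _).1 (hd j).epi_g
  have hex : ∀ j : ℤ, Function.Exact (S.f.f j).hom (S.g.f j).hom := fun j =>
    (ShortComplex.ShortExact.moduleCat_exact_iff_function_exact _).1 (hd j).exact
  refine { exact := ?_, mono_f := ?_, epi_g := ?_ }
  · refine (ShortComplex.ShortExact.moduleCat_exact_iff_function_exact _).2 fun w => ⟨fun hw => ?_, ?_⟩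
    · have h0 : xSumMap K S.g n (toSum K S.X₂ n w) = 0 := by
        rw [← toSum_lmap]; exact (congrArg _ hw).trans (map_zero _)
      obtain ⟨v, hv⟩ : toSum K S.X₂ n w ∈ LinearMap.range (xSumMap K S.f n) := by
        refine mem_range_lmap _ _ fun ij => ?_
        refine (lTensor_exact _ (hex ij.1.2) (hg ij.1.2) _).1 ?_
        exact (DirectSum.lmap_apply (fun ij : HTor.Antidiag n =>
          LinearMap.lTensor (K.X ij.1.1) (S.g.f ij.1.2).hom) _ ij).symm.trans
            (congrArg (fun t => DirectSum.component A _ _ ij t) h0)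
      refine ⟨fromSum K S.X₁ n v, ?_⟩
      show (lmap K S.f).f n (fromSum K S.X₁ n v) = w
      rw [← fromSum_toSum K S.X₂ n w, ← fromSum_toSum K S.X₂ n ((lmap K S.f).f n _),
        toSum_lmap, toSum_fromSum, hv]
    · rintro ⟨v, rfl⟩
      exact congrArg (fun g => g.hom v)
        (congrArg (fun g => g.f n) (tensorSC K S).zero)
  · refine (ModuleCat.mono_iff_injective _).2 fun v v' h => ?_
    have h' : xSumMap K S.f n (toSum K S.X₁ n v) = xSumMap K S.f n (toSum K S.X₁ n v') := by
      rw [← toSum_lmap, ← toSum_lmap]; exact congrArg _ h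
    have : toSum K S.X₁ n v = toSum K S.X₁ n v' := by
      refine DFinsupp.ext fun ij => ?_
      haveI := hK ij.1.1
      refine Module.Flat.lTensor_preserves_injective_linearMap (M := K.X ij.1.1) _ (hf ij.1.2) ?_
      have hc := congrArg (fun t => DirectSum.component A _ _ ij t) h'
      simp only [DirectSum.apply_eq_component, xSumMap, DirectSum.lmap_apply] at hc ⊢
      exact hc
    rw [← fromSum_toSum K S.X₁ n v, this, fromSum_toSum]
  · refine (ModuleCat.epi_iff_surjective _).2 fun w => ?_
    obtain ⟨v, hv⟩ : toSum K S.X₃ n w ∈ LinearMap.range (xSumMap K S.g n) :=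
      mem_range_lmap _ _ fun ij => LinearMap.lTensor_surjective _ (hg ij.1.2) _
    refine ⟨fromSum K S.X₂ n v, ?_⟩
    show (lmap K S.g).f n (fromSum K S.X₂ n v) = w
    rw [← fromSum_toSum K S.X₃ n w, ← fromSum_toSum K S.X₃ n ((lmap K S.g).f n _), toSum_lmap,
      toSum_fromSum, hv]

end Groth.Agent.Der55.Kun
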