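import Groth.Agent.Der55.Kun.Step

/-!
# The Künneth filtration
-/

set_option autoImplicit false
set_option linter.style.haveILetI false
universe u

open CategoryTheory CategoryTheory.Limits MonoidalCategory TensorProduct

namespace Groth.Agent.Der55.Kun

variable {A : Type u} [CommRing A] {L : DRing.Cx A}

theorem subsingleton_tensor_X {M : DRing.Cx A} {bL b : ℤ} (hbL : DRing.VanishesAbove L bL)
    (hb : DRing.VanishesAbove M b) {n : ℤ} (hn : bL + b < n) :
    Subsingleton ((HTor.tensorCx L M).X n) := by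
  have : LinearMap.id = (0 : (HTor.tensorCx L M).X n →ₗ[A] _) := hom_ext_tm L M fun i j h x y => by
    by_cases hi : bL < i
    · haveI := ModuleCat.subsingleton_of_isZero (hbL i hi)
      rw [Subsingleton.elim x 0]; simp [tm]
    · haveI := ModuleCat.subsingleton_of_isZero (hb j (by omega))
      rw [Subsingleton.elim y 0]; simp [tm]
  exact subsingleton_of_forall_eq 0 fun x => LinearMap.congr_fun this x

theorem isSubquotient_gr_zero {H H' T : Type u} [AddCommGroup H] [Module A H] [AddCommGroup H']
    [Module A H'] [AddCommGroup T] [Module A T] (δ : H →ₗ[A] H') (G : Submodule A H) (Q : Submodule A H')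
    (hG : LinearMap.ker δ = G) (ψ : T →ₗ[A] H') (hψ : LinearMap.range ψ = Q ⊓ LinearMap.range δ) :
    HTor.IsSubquotient A (↥(Q.comap δ) ⧸ G.comap (Q.comap δ).subtype) T := by
  let gb : (↥(Q.comap δ) ⧸ G.comap (Q.comap δ).subtype) →ₗ[A] H' :=
    (G.comap (Q.comap δ).subtype).liftQ (δ ∘ₗ (Q.comap δ).subtype) (by
      rw [LinearMap.ker_comp]
      exact Submodule.comap_mono hG.ge)
  have hinj : Function.Injective gb := by
    rw [← LinearMap.ker_eq_bot]
    refine Submodule.ker_liftQ_eq_bot _ _ _ ?_
    rw [LinearMap.ker_comp]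
    exact Submodule.comap_mono hG.le
  have hr : LinearMap.range gb = LinearMap.range ψ := by
    refine (Submodule.range_liftQ _ _ _).trans ?_
    rw [LinearMap.range_comp, Submodule.range_subtype, Submodule.map_comap_eq, inf_comm, hψ]
  exact isSubquotient_of_surjective
    (((LinearEquiv.ofInjective gb hinj).trans (LinearEquiv.ofEq _ _ hr)).symm.toLinearMap ∘ₗ
      ψ.rangeRestrict) (by
        rw [LinearMap.coe_comp]
        exact (LinearEquiv.surjective _).comp (LinearMap.surjective_rangeRestrict ψ))

theorem isSubquotient_gr_succ {H H' T : Type u} [AddCommGroup H] [Module A H] [AddCommGroup H']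
    [Module A H'] [AddCommGroup T] [Module A T] (δ : H →ₗ[A] H') (P Q : Submodule A H')
    (h : HTor.IsSubquotient A (↥Q ⧸ P.comap Q.subtype) T) :
    HTor.IsSubquotient A (↥(Q.comap δ) ⧸ (P.comap δ).comap (Q.comap δ).subtype) T := by
  refine isSubquotient_of_injective
    (Submodule.mapQ ((P.comap δ).comap (Q.comap δ).subtype) (P.comap Q.subtype)
      (δ.restrict (p := Q.comap δ) (q := Q) fun _ hx => hx) fun _ hx => hx) ?_ h
  rw [injective_iff_map_eq_zero]
  intro x hx
  obtain ⟨x, rfl⟩ := Submodule.Quotient.mk_surjective _ x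
  rw [Submodule.mapQ_apply, Submodule.Quotient.mk_eq_zero] at hx
  exact (Submodule.Quotient.mk_eq_zero _).2 hx

theorem exists_filtration (hL : DRing.TermwiseFlat L) {bL : ℤ} (hbL : DRing.VanishesAbove L bL)
    (b : ℤ) (k : ℕ) : ∀ (M : DRing.Cx A), DRing.VanishesAbove M b → ∀ n : ℤ, bL + b < n + k →
      ∃ F : ℕ → Submodule A ((HTor.tensorCx L M).homology n),
        F 0 = LinearMap.range (kun L M n) ∧ Monotone F ∧ F k = ⊤ ∧
          ∀ p : ℕ, HTor.IsSubquotient A (HTor.grSucc F p) (HTor.TorSum L M n (p + 1)) := by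
  induction k with
  | zero =>
    intro M hb n hn
    haveI := subsingleton_tensor_X hbL hb (show bL + b < n by omega)
    haveI : Subsingleton ((HTor.tensorCx L M).cycles n) := (iCycles_injective _ n).subsingleton
    haveI : Subsingleton ((HTor.tensorCx L M).homology n) :=
      (homologyπ_surjective (HTor.tensorCx L M) n).subsingleton
    exact ⟨fun _ => ⊤, (Subsingleton.elim _ _), monotone_const, rfl,
      fun p => isSubquotient_of_subsingleton⟩
  | succ k ih =>
    intro M hb n hn
    obtain ⟨M₁, hb₁, P, i, g, w, h⟩ := exists_step hL hbL M hb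
    obtain ⟨F₁, hF0, hmono, htop, hgr⟩ := ih M₁ hb₁ (n + 1) (by omega)
    let δ := h.δ hL n
    let F : ℕ → Submodule A ((HTor.tensorCx L M).homology n) := fun p =>
      Nat.casesOn p (LinearMap.range (kun L M n)) fun q => (F₁ q).comap δ
    have hker : LinearMap.ker δ = LinearMap.range (kun L M n) := h.ker_δ hL n
    refine ⟨F, rfl, monotone_nat_of_le_succ fun p => ?_, ?_, fun p => ?_⟩
    · cases p with
      | zero =>
        show LinearMap.range (kun L M n) ≤ (F₁ 0).comap δ
        rw [← hker]
        exact LinearMap.ker_le_comap δ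
      | succ q => exact Submodule.comap_mono (hmono (Nat.le_succ q))
    · show (F₁ k).comap δ = ⊤
      rw [htop, Submodule.comap_top]
    · cases p with
      | zero =>
        obtain ⟨ψ, hψ⟩ := h.exists_tor_one hL n
        exact isSubquotient_gr_zero δ _ (F₁ 0) hker ψ (by rw [hF0]; exact hψ)
      | succ q =>
        obtain ⟨e⟩ := h.torSum_shift n q
        exact isSubquotient_gr_succ δ (F₁ q) (F₁ (q + 1)) (isSubquotient_congr e (hgr q))

/-- The edge: bijectivity of the Künneth map from vanishing of higher `Tor`. -/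
theorem range_kun_eq_top (hL : DRing.TermwiseFlat L) {bL : ℤ} (hbL : DRing.VanishesAbove L bL)
    {M : DRing.Cx A} {b : ℤ} (hb : DRing.VanishesAbove M b) (n : ℤ)
    (h : ∀ (p : ℕ) (i j : ℤ), i + j - (p + 1 : ℕ) = n →
      Subsingleton (DRing.Tor A (p + 1) (L.homology i) (M.homology j))) :
    LinearMap.range (kun L M n) = ⊤ := by
  obtain ⟨F, hF0, hmono, htop, hgr⟩ :=
    exists_filtration hL hbL b (bL + b - n).toNat.succ M hb n (by omega)
  have hstep : ∀ p, F (p + 1) ≤ F p := fun p x hx => by
    haveI : ∀ ij : {ij : ℤ × ℤ // ij.1 + ij.2 - ((p + 1 : ℕ) : ℤ) = n},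
        Subsingleton (DRing.Tor A (p + 1) (L.homology ij.1.1) (M.homology ij.1.2)) :=
      fun ij => h p _ _ ij.2
    haveI : Subsingleton (HTor.TorSum L M n (p + 1)) := ⟨fun a b => DFinsupp.ext fun i => Subsingleton.elim _ _⟩
    haveI := subsingleton_of_isSubquotient (hgr p)
    exact (Submodule.Quotient.mk_eq_zero ((F p).comap (F (p + 1)).subtype)).1 (Subsingleton.elim
      (Submodule.Quotient.mk (⟨x, hx⟩ : F (p + 1)) : HTor.grSucc F p) 0)
  have : ∀ p, F p ≤ F 0 := fun p => by
    induction p with
    | zero => exact le_rfl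
    | succ p ih => exact (hstep p).trans ih
  rw [← hF0]
  exact top_le_iff.1 (htop.ge.trans (this _))

theorem kun_bijective_of_flat_homology (hL : DRing.TermwiseFlat L) {bL : ℤ}
    (hbL : DRing.VanishesAbove L bL) {M : DRing.Cx A} {b : ℤ} (hb : DRing.VanishesAbove M b)
    (hH : ∀ i : ℤ, Module.Flat A (L.homology i)) (n : ℤ) : Function.Bijective (kun L M n) := by
  have hsurj : ∀ (M : DRing.Cx A), DRing.VanishesAbove M b → ∀ n,
      LinearMap.range (kun L M n) = ⊤ := fun M hb n =>
    range_kun_eq_top hL hbL hb n fun p i j _ => by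
      haveI : Module.Flat A (ModuleCat.of A (L.homology i)) := hH i
      exact ModuleCat.subsingleton_of_isZero (Groth.Agent.SGA7X.isZero_tor_flat
        (ModuleCat.of A (L.homology i)) (ModuleCat.of A (M.homology j)) p)
  refine ⟨?_, LinearMap.range_eq_top.1 (hsurj M hb n)⟩
  obtain ⟨M₁, hb₁, P, i, g, w, h⟩ := exists_step hL hbL M hb
  rw [injective_iff_map_eq_zero]
  intro x hx
  obtain ⟨y, rfl⟩ := sumMap_surjective (L := L) g h.surjective n x
  have h1 := LinearMap.congr_fun (kun_natural L g n) y
  simp only [LinearMap.comp_apply] at h1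
  obtain ⟨z, hz⟩ := ((ShortComplex.ShortExact.moduleCat_exact_iff_function_exact _).1
    ((tensorSC_shortExact L hL h.shortExact).homology_exact₂ n) (kun L P n y)).1 (h1.trans hx)
  obtain ⟨v, hv⟩ := LinearMap.range_eq_top.1 (hsurj M₁ hb₁ n) z
  have h2 := LinearMap.congr_fun (kun_natural L i n) v
  simp only [LinearMap.comp_apply] at h2
  have hy : sumMap L i n v = y :=
    (h.bijective n).1 (h2.symm.trans ((congrArg _ hv).trans hz))
  rw [← hy]
  refine DFinsupp.ext fun ij => ?_
  show LinearMap.lTensor _ (HomologicalComplex.homologyMap g ij.1.2).hom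
    (LinearMap.lTensor _ (HomologicalComplex.homologyMap i ij.1.2).hom (v ij)) = 0
  rw [← LinearMap.lTensor_comp_apply, ← ModuleCat.hom_comp, ← HomologicalComplex.homologyMap_comp,
    w, HomologicalComplex.homologyMap_zero]
  simp

theorem isZero_of_tor_vanishing (hL : DRing.TermwiseFlat L) {bL : ℤ}
    (hbL : DRing.VanishesAbove L bL) {M : DRing.Cx A} {b : ℤ} (hb : DRing.VanishesAbove M b) (n : ℤ)
    (h : ∀ (p : ℕ) (i j : ℤ), i + j - p = n →
      Subsingleton (DRing.Tor A p (L.homology i) (M.homology j))) :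
    Subsingleton ((HTor.tensorCx L M).homology n) := by
  have htop := range_kun_eq_top hL hbL hb n fun p i j hij => h (p + 1) i j hij
  haveI : ∀ ij : HTor.Antidiag n, Subsingleton (L.homology ij.1.1 ⊗[A] M.homology ij.1.2) := fun ij => by
    haveI : Subsingleton (((TorBridge.KerNat.ten (ModuleCat.of A (L.homology ij.1.1))).leftDerived 0).obj
        (ModuleCat.of A (M.homology ij.1.2))) := h 0 ij.1.1 ij.1.2 (by have := ij.2; push_cast; omega)
    exact ((TorBridge.KerNat.ten (ModuleCat.of A (L.homology ij.1.1))).leftDerivedZeroIsoSelf.app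
      (ModuleCat.of A (M.homology ij.1.2))).toLinearEquiv.symm.subsingleton
  haveI : Subsingleton (HTor.KunnethSum L M n) := ⟨fun a b => DFinsupp.ext fun i => Subsingleton.elim _ _⟩
  exact (LinearMap.range_eq_top.1 htop).subsingleton

end Groth.Agent.Der55.Kun
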