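import Groth.Agent.Der55.Kun.Basic

/-!
# The Künneth map
-/

set_option autoImplicit false
universe u

open CategoryTheory CategoryTheory.Limits MonoidalCategory TensorProduct

namespace Groth.Agent.Der55.Kun

variable {A : Type u} [CommRing A] (K L : DRing.Cx A)

theorem zsmul_eq_zero_right {M : Type u} [AddCommGroup M] [Module A M] (c : ℤ) {a b : M}
    (hb : b = 0) : a + c • b = a := by simp [hb]

theorem cycle_tm {i j : ℤ} (n : ℤ) (h : i + j = n) (z : K.cycles i) (z' : L.cycles j) :
    (HTor.tensorCx K L).d n (n + 1) (tm K L n h (K.iCycles i z) (L.iCycles j z')) = 0 := by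
  rw [d_tm K L n (n + 1) h rfl]
  have e1 : K.d i (i + 1) (K.iCycles i z) = 0 := d_iCycles K _ z
  have e2 : L.d j (j + 1) (L.iCycles j z') = 0 := d_iCycles L _ z'
  rw [e1, e2]
  simp [tm]

/-- The product of two cycles. -/
noncomputable def zz (i j n : ℤ) (h : i + j = n) :
    K.cycles i ⊗[A] L.cycles j →ₗ[A] (HTor.tensorCx K L).cycles n :=
  (HomologicalComplex.liftCycles (HTor.tensorCx K L)
    (ModuleCat.ofHom ((tmι K L i j n h) ∘ₗ TensorProduct.map (K.iCycles i).hom (L.iCycles j).hom))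
    (n + 1) (by simp) (ModuleCat.hom_ext (TensorProduct.ext' fun z z' => cycle_tm K L n h z z'))).hom

theorem iCycles_zz {i j : ℤ} (n : ℤ) (h : i + j = n) (z : K.cycles i) (z' : L.cycles j) :
    (HTor.tensorCx K L).iCycles n (zz K L i j n h (z ⊗ₜ[A] z')) =
      tm K L n h (K.iCycles i z) (L.iCycles j z') :=
  congrArg (fun g => g.hom (z ⊗ₜ[A] z')) (HomologicalComplex.liftCycles_i (HTor.tensorCx K L)
    (ModuleCat.ofHom ((tmι K L i j n h) ∘ₗ TensorProduct.map (K.iCycles i).hom (L.iCycles j).hom))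
    (n + 1) (by simp) (ModuleCat.hom_ext (TensorProduct.ext' fun z z' => cycle_tm K L n h z z')))

/-- The class of a product of two cycles. -/
noncomputable def cc (i j n : ℤ) (h : i + j = n) :
    K.cycles i ⊗[A] L.cycles j →ₗ[A] (HTor.tensorCx K L).homology n :=
  ((HTor.tensorCx K L).homologyπ n).hom ∘ₗ zz K L i j n h

theorem cc_toCycles_left {i j : ℤ} (n : ℤ) (h : i + j = n) (x : K.X (i - 1)) (z' : L.cycles j) :
    cc K L i j n h (K.toCycles (i - 1) i x ⊗ₜ[A] z') = 0 := by
  refine (homologyπ_eq_zero_iff (HTor.tensorCx K L) (n - 1) (by omega) _).2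
    ⟨tm K L (n - 1) (by omega) x (L.iCycles j z'), ?_⟩
  rw [iCycles_zz, d_tm' K L (n - 1) n (by omega) (by omega) (i' := i) (j' := j + 1) (by omega) rfl]
  have e2 : L.d j (j + 1) (L.iCycles j z') = 0 := d_iCycles L _ z'
  have e1 : K.iCycles i (K.toCycles (i - 1) i x) = K.d (i - 1) i x :=
    congrArg (fun g => g.hom x) (K.toCycles_i (i - 1) i)
  rw [e2, e1, zsmul_eq_zero_right (A := A) _ (by simp [tm])]

theorem cc_toCycles_right {i j : ℤ} (n : ℤ) (h : i + j = n) (z : K.cycles i) (y : L.X (j - 1)) :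
    cc K L i j n h (z ⊗ₜ[A] L.toCycles (j - 1) j y) = 0 := by
  refine (homologyπ_eq_zero_iff (HTor.tensorCx K L) (n - 1) (by omega) _).2
    ⟨(i.negOnePow : ℤ) • tm K L (n - 1) (by omega) (K.iCycles i z) y, ?_⟩
  rw [iCycles_zz, map_zsmul, d_tm' K L (n - 1) n (by omega) (by omega) (i' := i + 1) (j' := j) rfl (by omega)]
  have e2 : K.d i (i + 1) (K.iCycles i z) = 0 := d_iCycles K _ z
  have e1 : L.iCycles j (L.toCycles (j - 1) j y) = L.d (j - 1) j y :=
    congrArg (fun g => g.hom y) (L.toCycles_i (j - 1) j)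
  rw [e2, e1, show tm K L n (by omega : i + 1 + (j - 1) = n) 0 y = 0 by simp [tm], zero_add,
    smul_smul, ← Units.val_mul, Int.units_mul_self, Units.val_one, one_smul]

theorem homology_exact_toCycles (i : ℤ) :
    Function.Exact (K.toCycles (i - 1) i).hom (K.homologyπ i).hom :=
  (ShortComplex.ShortExact.moduleCat_exact_iff_function_exact _).1
    (ShortComplex.exact_of_g_is_cokernel
      (ShortComplex.mk (K.toCycles (i - 1) i) (K.homologyπ i) (K.toCycles_comp_homologyπ (i - 1) i))
      (K.homologyIsCokernel (i - 1) i (by simp)))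

theorem cc_ker (i j n : ℤ) (h : i + j = n) :
    LinearMap.ker (TensorProduct.map (K.homologyπ i).hom (L.homologyπ j).hom) ≤
      LinearMap.ker (cc K L i j n h) := by
  rw [TensorProduct.map_ker (homology_exact_toCycles K i) (homologyπ_surjective K i)
    (homology_exact_toCycles L j) (homologyπ_surjective L j), sup_le_iff]
  constructor
  · rw [LinearMap.range_le_ker_iff]
    exact TensorProduct.ext' fun z y => cc_toCycles_right K L n h z y
  · rw [LinearMap.range_le_ker_iff]
    exact TensorProduct.ext' fun x z' => cc_toCycles_left K L n h x z'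

theorem map_π_surjective (i j : ℤ) :
    Function.Surjective (TensorProduct.map (K.homologyπ i).hom (L.homologyπ j).hom) :=
  TensorProduct.map_surjective (homologyπ_surjective K i) (homologyπ_surjective L j)

/-- The `(i, j)` component of the Künneth map. -/
noncomputable def kunC (i j n : ℤ) (h : i + j = n) :
    K.homology i ⊗[A] L.homology j →ₗ[A] (HTor.tensorCx K L).homology n :=
  (LinearMap.ker (TensorProduct.map (K.homologyπ i).hom (L.homologyπ j).hom)).liftQ
      (cc K L i j n h) (cc_ker K L i j n h) ∘ₗ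
    (LinearMap.quotKerEquivOfSurjective _ (map_π_surjective K L i j)).symm.toLinearMap

theorem kunC_tmul (i j n : ℤ) (h : i + j = n) (z : K.cycles i) (z' : L.cycles j) :
    kunC K L i j n h (K.homologyπ i z ⊗ₜ[A] L.homologyπ j z') = cc K L i j n h (z ⊗ₜ[A] z') := by
  have : (LinearMap.quotKerEquivOfSurjective _ (map_π_surjective K L i j)).symm
      (K.homologyπ i z ⊗ₜ[A] L.homologyπ j z') =
      Submodule.Quotient.mk (z ⊗ₜ[A] z') := by
    rw [LinearEquiv.symm_apply_eq]
    rfl
  simp [kunC, this]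

/-- The Künneth map. -/
noncomputable def kun (n : ℤ) : HTor.KunnethSum K L n →ₗ[A] (HTor.tensorCx K L).homology n :=
  DirectSum.toModule A _ _ fun ij => kunC K L ij.1.1 ij.1.2 n ij.2

theorem kun_lof (n : ℤ) (ij : HTor.Antidiag n) (t : K.homology ij.1.1 ⊗[A] L.homology ij.1.2) :
    kun K L n (DirectSum.lof A (HTor.Antidiag n)
      (fun ij => K.homology ij.1.1 ⊗[A] L.homology ij.1.2) ij t) =
      kunC K L ij.1.1 ij.1.2 n ij.2 t :=
  DirectSum.toModule_lof A (φ := fun ij : HTor.Antidiag n => kunC K L ij.1.1 ij.1.2 n ij.2) ij t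

theorem isKunnethMap_kun (n : ℤ) : HTor.IsKunnethMap K L n (kun K L n) := by
  intro ij z z' w hw
  rw [kun_lof, kunC_tmul]
  show (HTor.tensorCx K L).homologyπ n _ = _
  congr 1
  exact iCycles_injective _ n ((iCycles_zz K L n ij.2 z z').trans hw.symm)

theorem isKunnethMap_unique {n : ℤ} {Φ : HTor.KunnethSum K L n →ₗ[A] (HTor.tensorCx K L).homology n}
    (hΦ : HTor.IsKunnethMap K L n Φ) : Φ = kun K L n := by
  refine DirectSum.linearMap_ext A fun ij => TensorProduct.ext' fun a b => ?_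
  obtain ⟨z, rfl⟩ := homologyπ_surjective K _ a
  obtain ⟨z', rfl⟩ := homologyπ_surjective L _ b
  simp only [LinearMap.comp_apply]
  rw [hΦ ij z z' _ (iCycles_zz K L n ij.2 z z'),
    isKunnethMap_kun K L n ij z z' _ (iCycles_zz K L n ij.2 z z')]

/-- The map `⊕ H^i K ⊗ H^j L → ⊕ H^i K ⊗ H^j L'`. -/
noncomputable def sumMap {L L' : DRing.Cx A} (φ : L ⟶ L') (n : ℤ) :
    HTor.KunnethSum K L n →ₗ[A] HTor.KunnethSum K L' n :=
  DirectSum.lmap fun ij => LinearMap.lTensor _ (HomologicalComplex.homologyMap φ ij.1.2).hom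

theorem kun_natural {L L' : DRing.Cx A} (φ : L ⟶ L') (n : ℤ) :
    (HomologicalComplex.homologyMap (lmap K φ) n).hom ∘ₗ kun K L n = kun K L' n ∘ₗ sumMap K φ n := by
  refine DirectSum.linearMap_ext A fun ij => TensorProduct.ext' fun a b => ?_
  obtain ⟨z, rfl⟩ := homologyπ_surjective K _ a
  obtain ⟨z', rfl⟩ := homologyπ_surjective L _ b
  have e : HomologicalComplex.homologyMap φ ij.1.2 (L.homologyπ _ z') =
      L'.homologyπ _ (HomologicalComplex.cyclesMap φ ij.1.2 z') :=
    congrArg (fun g => g.hom z') (HomologicalComplex.homologyπ_naturality φ ij.1.2)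
  have hL' := isKunnethMap_kun K L' n ij z (HomologicalComplex.cyclesMap φ ij.1.2 z')
    (HomologicalComplex.cyclesMap (lmap K φ) n (zz K L _ _ n ij.2 (z ⊗ₜ[A] z'))) (by
      rw [cyclesMap_tm K φ n ij.2 _ _ _ (iCycles_zz K L n ij.2 z z'),
        show φ.f _ (L.iCycles _ z') = L'.iCycles _ (HomologicalComplex.cyclesMap φ ij.1.2 z') from
          (congrArg (fun g => g.hom z') (HomologicalComplex.cyclesMap_i φ ij.1.2)).symm]
      rfl)
  simp only [LinearMap.comp_apply]
  rw [kun_lof, kunC_tmul]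
  refine (congrArg (fun g => g.hom (zz K L _ _ n ij.2 (z ⊗ₜ[A] z')))
    (HomologicalComplex.homologyπ_naturality (lmap K φ) n)).trans (Eq.trans hL'.symm ?_)
  rw [sumMap, DirectSum.lmap_lof, LinearMap.lTensor_tmul, e]

end Groth.Agent.Der55.Kun
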