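import Groth.Agent.Der55.Kun.ZeroDiff
import Mathlib.Algebra.Homology.QuasiIso
import Mathlib.LinearAlgebra.Finsupp.LinearCombination

/-!
# A termwise surjection from a complex with free cohomology
-/

set_option autoImplicit false
set_option linter.style.haveILetI false
universe u

open CategoryTheory CategoryTheory.Limits MonoidalCategory TensorProduct

namespace Groth.Agent.Der55.Kun

variable {A : Type u} [CommRing A] (M : DRing.Cx A) (b : ℤ)

/-- Index of the free cover of `H^k(M)`. -/
abbrev QIdx (k : ℤ) : Type u := {x : M.homology k // x ≠ 0}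

/-- Index of the free cover of `M^k` below the bound. -/
abbrev FIdx (k : ℤ) : Type u := {x : M.X k // x ≠ 0 ∧ k < b}

/-- The free cover of the cohomology, with zero differential. -/
noncomputable def qCx : DRing.Cx A where
  X k := ModuleCat.of A (QIdx M k →₀ A)
  d _ _ := 0
  shape := fun _ _ _ => rfl
  d_comp_d' := fun _ _ _ _ _ => by simp

theorem qCx_d (i j : ℤ) : (qCx M).d i j = 0 := rfl

/-- Transport of the free cover along an equality of degrees. -/
noncomputable def fCast {i j : ℤ} (h : i = j) : (FIdx M b i →₀ A) ≃ₗ[A] (FIdx M b j →₀ A) :=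
  h ▸ LinearEquiv.refl A _

/-- The differential of `pCx`. -/
noncomputable def pD (i j : ℤ) :
    (QIdx M i →₀ A) × (FIdx M b i →₀ A) × (FIdx M b (i - 1) →₀ A) →ₗ[A]
      (QIdx M j →₀ A) × (FIdx M b j →₀ A) × (FIdx M b (j - 1) →₀ A) :=
  if h : i = j - 1 then
    LinearMap.inr A _ _ ∘ₗ LinearMap.inr A _ _ ∘ₗ (fCast M b h).toLinearMap ∘ₗ
      LinearMap.fst A _ _ ∘ₗ LinearMap.snd A _ _
  else 0

theorem pD_pos {i j : ℤ} (h : i = j - 1)
    (x : (QIdx M i →₀ A) × (FIdx M b i →₀ A) × (FIdx M b (i - 1) →₀ A)) :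
    pD M b i j x = (0, 0, fCast M b h x.2.1) := by
  rw [pD, dif_pos h]; rfl

theorem pD_neg {i j : ℤ} (h : ¬i = j - 1) : pD M b i j = 0 := dif_neg h

/-- The free cover of the cohomology plus a contractible complex covering the terms. -/
noncomputable def pCx : DRing.Cx A where
  X k := ModuleCat.of A ((QIdx M k →₀ A) × (FIdx M b k →₀ A) × (FIdx M b (k - 1) →₀ A))
  d i j := ModuleCat.ofHom (pD M b i j)
  shape := fun i j h => ModuleCat.hom_ext (pD_neg M b fun e => h (by show i + 1 = j; omega))
  d_comp_d' := fun i j k hij hjk => by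
    change i + 1 = j at hij
    change j + 1 = k at hjk
    refine ModuleCat.hom_ext (LinearMap.ext fun x => ?_)
    show pD M b j k (pD M b i j x) = 0
    rw [pD_pos M b (by omega : j = k - 1), pD_pos M b (by omega : i = j - 1)]
    simp

/-- The free cover inside `pCx`. -/
noncomputable def inlCx : qCx M ⟶ pCx M b where
  f k := ModuleCat.ofHom (LinearMap.inl A _ _)
  comm' i j hij := by
    change i + 1 = j at hij
    refine ModuleCat.hom_ext (LinearMap.ext fun q => ?_)
    show pD M b i j (q, 0) = _
    rw [pD_pos M b (by omega : i = j - 1), qCx_d]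
    simp
    rfl

theorem pCx_d_apply {i j : ℤ} (h : i = j - 1) (x : (pCx M b).X i) :
    (pCx M b).d i j x = (0, 0, fCast M b h x.2.1) :=
  pD_pos M b h x

theorem homologyMap_inlCx_bijective (k : ℤ) :
    Function.Bijective (HomologicalComplex.homologyMap (inlCx M b) k).hom := by
  have hnat : ∀ z : (qCx M).cycles k,
      HomologicalComplex.homologyMap (inlCx M b) k ((qCx M).homologyπ k z) =
        (pCx M b).homologyπ k (HomologicalComplex.cyclesMap (inlCx M b) k z) := fun z =>
    congrArg (fun g => g.hom z) (HomologicalComplex.homologyπ_naturality (inlCx M b) k)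
  have hi : ∀ z : (qCx M).cycles k,
      (pCx M b).iCycles k (HomologicalComplex.cyclesMap (inlCx M b) k z) =
        (((qCx M).iCycles k z, 0, 0) : (QIdx M k →₀ A) × (FIdx M b k →₀ A) ×
          (FIdx M b (k - 1) →₀ A)) := fun z =>
    congrArg (fun g => g.hom z) (HomologicalComplex.cyclesMap_i (inlCx M b) k)
  constructor
  · rw [injective_iff_map_eq_zero]
    intro x hx
    obtain ⟨z, rfl⟩ := homologyπ_surjective (qCx M) k x
    obtain ⟨y, hy⟩ := (homologyπ_eq_zero_iff (pCx M b) (k - 1) (by omega) _).1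
      ((hnat z).symm.trans hx)
    rw [hi, pCx_d_apply M b rfl] at hy
    refine (homologyπ_eq_zero_iff (qCx M) (k - 1) (by omega) z).2 ⟨0, ?_⟩
    rw [map_zero]
    exact (congrArg Prod.fst hy)
  · intro x
    obtain ⟨w, rfl⟩ := homologyπ_surjective (pCx M b) k x
    have hw := d_iCycles (pCx M b) (k + 1) w
    rw [pCx_d_apply M b (by omega : k = k + 1 - 1)] at hw
    obtain ⟨z, hz⟩ := exists_cycle (qCx M) ((pCx M b).iCycles k w).1 rfl
    refine ⟨(qCx M).homologyπ k z, ?_⟩
    rw [hnat, ← sub_eq_zero, ← map_sub,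
      homologyπ_eq_zero_iff (pCx M b) (k - 1) (by omega)]
    refine ⟨((0, -((pCx M b).iCycles k w).2.2, 0) :
      (QIdx M (k - 1) →₀ A) × (FIdx M b (k - 1) →₀ A) × (FIdx M b (k - 1 - 1) →₀ A)), ?_⟩
    rw [pCx_d_apply M b rfl, map_sub, hi, hz]
    have h2 : ((pCx M b).iCycles k w).2.1 = 0 := by
      have := congrArg (fun t => t.2.2) hw
      exact (LinearEquiv.map_eq_zero_iff _).1 this
    refine Prod.ext ?_ (Prod.ext ?_ ?_)
    · show (0 : QIdx M k →₀ A) = ((pCx M b).iCycles k w).1 - ((pCx M b).iCycles k w).1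
      rw [sub_self]
    · show (0 : FIdx M b k →₀ A) = 0 - _
      simp [h2]
    · show fCast M b rfl (-_) = 0 - _
      simp [fCast]

theorem quasiIso_inlCx : QuasiIso (inlCx M b) where
  quasiIsoAt k := by
    rw [quasiIsoAt_iff_isIso_homologyMap]
    exact (ConcreteCategory.isIso_iff_bijective _).2 (homologyMap_inlCx_bijective M b k)

/-- A cycle lifting a class. -/
noncomputable def lift (k : ℤ) (x : M.homology k) : M.X k :=
  M.iCycles k (Function.surjInv (homologyπ_surjective M k) x)

theorem d_lift (k l : ℤ) (x : M.homology k) : M.d k l (lift M k x) = 0 := d_iCycles M l _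

/-- Components of the cover. -/
noncomputable def toMLin (k : ℤ) :
    (QIdx M k →₀ A) × (FIdx M b k →₀ A) × (FIdx M b (k - 1) →₀ A) →ₗ[A] M.X k :=
  LinearMap.coprod (Finsupp.linearCombination A fun x : QIdx M k => lift M k x.1)
    (LinearMap.coprod (Finsupp.linearCombination A fun x : FIdx M b k => x.1)
      ((M.d (k - 1) k).hom ∘ₗ Finsupp.linearCombination A fun x : FIdx M b (k - 1) => x.1))

theorem d_linComb_cast {i i' : ℤ} (h : i = i') (j : ℤ) (a : FIdx M b i →₀ A) :
    M.d i' j (Finsupp.linearCombination A (fun x : FIdx M b i' => x.1) (fCast M b h a)) =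
      M.d i j (Finsupp.linearCombination A (fun x : FIdx M b i => x.1) a) := by
  subst h; rfl

theorem d_lc_lift (i j : ℤ) (q : QIdx M i →₀ A) :
    M.d i j (Finsupp.linearCombination A (fun x : QIdx M i => lift M i x.1) q) = 0 := by
  have : (M.d i j).hom ∘ₗ (Finsupp.linearCombination A fun x : QIdx M i => lift M i x.1) = 0 :=
    Finsupp.lhom_ext fun x a => by simp [d_lift]
  exact LinearMap.congr_fun this q

/-- The cover. -/
noncomputable def toM : pCx M b ⟶ M where
  f k := ModuleCat.ofHom (toMLin M b k)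
  comm' i j hij := by
    change i + 1 = j at hij
    refine ModuleCat.hom_ext (LinearMap.ext fun x => ?_)
    show M.d i j (toMLin M b i x) = toMLin M b j ((pCx M b).d i j x)
    rw [pCx_d_apply M b (by omega : i = j - 1)]
    simp only [toMLin, LinearMap.coprod_apply, map_add, map_zero, zero_add, LinearMap.comp_apply]
    rw [d_linComb_cast, d_lc_lift]
    have : M.d i j (M.d (i - 1) i
        (Finsupp.linearCombination A (fun x : FIdx M b (i - 1) => x.1) x.2.2)) = 0 :=
      congrArg (fun g : M.X (i - 1) ⟶ M.X j => g.hom _) (M.d_comp_d (i - 1) i j)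
    rw [this]
    simp

theorem homologyMap_toM_surjective (k : ℤ) :
    Function.Surjective (HomologicalComplex.homologyMap (toM M b) k).hom := by
  intro x
  by_cases hx : x = 0
  · exact ⟨0, by rw [map_zero, hx]⟩
  obtain ⟨z, hz⟩ := exists_cycle (pCx M b)
    ((Finsupp.single ⟨x, hx⟩ 1, 0, 0) :
      (QIdx M k →₀ A) × (FIdx M b k →₀ A) × (FIdx M b (k - 1) →₀ A))
    ((pCx_d_apply M b (by omega : k = k + 1 - 1) _).trans (by simp; rfl))
  refine ⟨(pCx M b).homologyπ k z, ?_⟩
  refine (congrArg (fun g => g.hom z)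
    (HomologicalComplex.homologyπ_naturality (toM M b) k)).trans ?_
  conv_rhs => rw [← Function.surjInv_eq (homologyπ_surjective M k) x]
  show M.homologyπ k (HomologicalComplex.cyclesMap (toM M b) k z) = _
  congr 1
  refine iCycles_injective M k ?_
  refine (congrArg (fun g => g.hom z) (HomologicalComplex.cyclesMap_i (toM M b) k)).trans ?_
  show toMLin M b k ((pCx M b).iCycles k z) = _
  rw [hz]
  simp [toMLin, lift]

variable {M b} (hb : DRing.VanishesAbove M b)

include hb

theorem subsingleton_X {k : ℤ} (hk : b < k) : Subsingleton (M.X k) :=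
  ModuleCat.subsingleton_of_isZero (hb k hk)

theorem subsingleton_homology {k : ℤ} (hk : b < k) : Subsingleton (M.homology k) := by
  haveI := subsingleton_X hb hk
  have : Subsingleton (M.cycles k) := (iCycles_injective M k).subsingleton
  exact (homologyπ_surjective M k).subsingleton

theorem toM_surjective (k : ℤ) : Function.Surjective ((toM M b).f k).hom := by
  intro m
  rcases lt_trichotomy k b with hk | hk | hk
  · by_cases hm : m = 0
    · exact ⟨0, by rw [map_zero, hm]⟩
    · exact ⟨((0, Finsupp.single ⟨m, hm, hk⟩ 1, 0) :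
        (QIdx M k →₀ A) × (FIdx M b k →₀ A) × (FIdx M b (k - 1) →₀ A)),
        by show toMLin M b k _ = m; simp [toMLin]⟩
  · have : Subsingleton (M.X (k + 1)) := subsingleton_X hb (by omega)
    obtain ⟨z, rfl⟩ := exists_cycle M m (Subsingleton.elim _ _)
    obtain ⟨x, hx⟩ := homologyMap_toM_surjective M b k (M.homologyπ k z)
    obtain ⟨w, rfl⟩ := homologyπ_surjective (pCx M b) k x
    have h := (congrArg (fun g => g.hom w)
      (HomologicalComplex.homologyπ_naturality (toM M b) k)).symm.trans hx
    obtain ⟨y, hy⟩ := (homologyπ_eq_zero_iff M (k - 1) (by omega)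
      (z - HomologicalComplex.cyclesMap (toM M b) k w)).1 (by rw [map_sub, sub_eq_zero]; exact h.symm)
    obtain ⟨e, he⟩ : ∃ e : FIdx M b (k - 1) →₀ A,
        Finsupp.linearCombination A (fun x : FIdx M b (k - 1) => x.1) e = y := by
      by_cases hy0 : y = 0
      · exact ⟨0, by simp [hy0]⟩
      · exact ⟨Finsupp.single ⟨y, hy0, by omega⟩ 1, by simp⟩
    let t : (pCx M b).X k := ((0, 0, e) : (QIdx M k →₀ A) × (FIdx M b k →₀ A) × (FIdx M b (k - 1) →₀ A))
    refine ⟨(pCx M b).iCycles k w + t, ?_⟩
    rw [map_add]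
    have h1 : (toM M b).f k ((pCx M b).iCycles k w) =
        M.iCycles k (HomologicalComplex.cyclesMap (toM M b) k w) :=
      (congrArg (fun g => g.hom w) (HomologicalComplex.cyclesMap_i (toM M b) k)).symm
    have h2 : (toM M b).f k t = M.d (k - 1) k y := by
      show toMLin M b k (0, 0, e) = _
      simp [toMLin, he]
    rw [h1]
    refine (congrArg (_ + ·) h2).trans ?_
    rw [hy, map_sub, add_sub_cancel]
  · haveI := subsingleton_X hb hk
    exact ⟨0, Subsingleton.elim _ _⟩

theorem vanishesAbove_pCx : DRing.VanishesAbove (pCx M b) b := by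
  intro k hk
  have h1 : Subsingleton (M.homology k) := subsingleton_homology hb hk
  haveI : IsEmpty (QIdx M k) := ⟨fun x => x.2 (Subsingleton.elim _ _)⟩
  haveI : IsEmpty (FIdx M b k) := ⟨fun x => by have := x.2.2; omega⟩
  haveI : IsEmpty (FIdx M b (k - 1)) := ⟨fun x => by have := x.2.2; omega⟩
  exact (ModuleCat.isZero_iff_subsingleton).2
    (inferInstanceAs (Subsingleton ((QIdx M k →₀ A) × (FIdx M b k →₀ A) × (FIdx M b (k - 1) →₀ A))))

theorem vanishesAbove_qCx : DRing.VanishesAbove (qCx M) b := by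
  intro k hk
  have h1 : Subsingleton (M.homology k) := subsingleton_homology hb hk
  haveI : IsEmpty (QIdx M k) := ⟨fun x => x.2 (Subsingleton.elim _ _)⟩
  exact (ModuleCat.isZero_iff_subsingleton).2 (inferInstanceAs (Subsingleton (QIdx M k →₀ A)))

end Groth.Agent.Der55.Kun
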