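import Groth.Prelude.Def_HTor

/-!
# Subquotients
-/

set_option autoImplicit false
universe u v

namespace Groth.Agent.Der55.Kun

variable {A : Type v} [CommRing A] {N N' T T' : Type u} [AddCommGroup N] [Module A N]
  [AddCommGroup N'] [Module A N'] [AddCommGroup T] [Module A T] [AddCommGroup T'] [Module A T']

theorem isSubquotient_iff :
    HTor.IsSubquotient A N T ↔ ∃ (S' : Submodule A T) (ψ : S' →ₗ[A] N), Function.Surjective ψ := by
  constructor
  · rintro ⟨S, S', -, ⟨e⟩⟩
    exact ⟨S', e.symm.toLinearMap ∘ₗ Submodule.mkQ _,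
      e.symm.surjective.comp (Submodule.mkQ_surjective _)⟩
  · rintro ⟨S', ψ, hψ⟩
    refine ⟨(LinearMap.ker ψ).map S'.subtype, S', Submodule.map_subtype_le _ _, ⟨?_⟩⟩
    refine (LinearMap.quotKerEquivOfSurjective ψ hψ).symm ≪≫ₗ Submodule.quotEquivOfEq _ _ ?_
    rw [Submodule.comap_map_eq_of_injective S'.injective_subtype]

theorem isSubquotient_of_injective (j : N →ₗ[A] N') (hj : Function.Injective j)
    (h : HTor.IsSubquotient A N' T) : HTor.IsSubquotient A N T := by
  rw [isSubquotient_iff] at h ⊢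
  obtain ⟨S', ψ, hψ⟩ := h
  let S'' : Submodule A T := ((LinearMap.range j).comap ψ).map S'.subtype
  let r : (LinearMap.range j).comap ψ →ₗ[A] LinearMap.range j :=
    ψ.restrict fun _ hx => hx
  have hr : Function.Surjective r := fun y => by
    obtain ⟨x, hx⟩ := hψ y.1
    exact ⟨⟨x, by show ψ x ∈ LinearMap.range j; rw [hx]; exact y.2⟩, Subtype.ext hx⟩
  let e : (LinearMap.range j).comap ψ ≃ₗ[A] S'' :=
    Submodule.equivMapOfInjective S'.subtype S'.injective_subtype _
  exact ⟨S'', (LinearEquiv.ofInjective j hj).symm.toLinearMap ∘ₗ r ∘ₗ e.symm.toLinearMap,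
    (LinearEquiv.ofInjective j hj).symm.surjective.comp (hr.comp e.symm.surjective)⟩

theorem isSubquotient_congr (e : T ≃ₗ[A] T') (h : HTor.IsSubquotient A N T) :
    HTor.IsSubquotient A N T' := by
  rw [isSubquotient_iff] at h ⊢
  obtain ⟨S', ψ, hψ⟩ := h
  exact ⟨S'.map e.toLinearMap, ψ ∘ₗ (e.submoduleMap S').symm.toLinearMap,
    hψ.comp (e.submoduleMap S').symm.surjective⟩

theorem isSubquotient_of_surjective (ψ : T →ₗ[A] N) (hψ : Function.Surjective ψ) :
    HTor.IsSubquotient A N T :=
  isSubquotient_iff.2 ⟨⊤, ψ ∘ₗ (Submodule.topEquiv (R := A) (M := T)).toLinearMap,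
    hψ.comp (Submodule.topEquiv (R := A) (M := T)).surjective⟩

theorem isSubquotient_of_subsingleton [Subsingleton N] : HTor.IsSubquotient A N T :=
  isSubquotient_of_surjective 0 fun _ => ⟨0, Subsingleton.elim _ _⟩

/-- Zero `Tor` sums leave no room for a jump in the filtration. -/
theorem subsingleton_of_isSubquotient [Subsingleton T] (h : HTor.IsSubquotient A N T) :
    Subsingleton N := by
  obtain ⟨S', ψ, hψ⟩ := isSubquotient_iff.1 h
  exact hψ.subsingleton

end Groth.Agent.Der55.Kun
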