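import Groth.Agent.H9Misc.TorBalance
import Groth.Agent.TorBridge.KerNat
import Groth.Agent.SGA7X.TorSeq
import Groth.Prelude.Def_DRing2

/-!
# Dimension shifting for `Tor` in the second variable
-/

set_option autoImplicit false
set_option linter.style.haveILetI false
universe u

open CategoryTheory CategoryTheory.Limits MonoidalCategory TensorProduct

namespace Groth.Agent.Der55.Kun

variable {A : Type u} [CommRing A] {S : ShortComplex (ModuleCat.{u} A)}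

theorem tor_shift (hS : S.ShortExact) [Module.Flat A S.X₂] (X : ModuleCat.{u} A) (p : ℕ) :
    Nonempty (DRing.Tor A (p + 1) X S.X₁ ≃ₗ[A] DRing.Tor A (p + 2) X S.X₃) := by
  obtain ⟨T, hT, hi⟩ := Groth.Agent.SGA7X.exists_torSeq hS X
  obtain ⟨⟨e1⟩, ⟨e2⟩, -⟩ := hi (p + 1)
  obtain ⟨-, ⟨e2'⟩, ⟨e3⟩⟩ := hi (p + 2)
  haveI := hT.isIso_δ (p + 2) (p + 1) rfl
    ((Groth.Agent.SGA7X.isZero_tor_flat S.X₂ X (p + 1)).of_iso e2'.symm)
    ((Groth.Agent.SGA7X.isZero_tor_flat S.X₂ X p).of_iso e2.symm)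
  exact ⟨(Groth.Agent.H9Misc.TorBalance.torSymm X S.X₁ (p + 1) ≪≫ e1 ≪≫
    (asIso (hT.δ (p + 2) (p + 1) rfl)).symm ≪≫ e3.symm ≪≫
    (Groth.Agent.H9Misc.TorBalance.torSymm X S.X₃ (p + 2)).symm).toLinearEquiv⟩

theorem tor_one_ker (hS : S.ShortExact) [Module.Flat A S.X₂] (X : ModuleCat.{u} A) :
    ∃ θ : DRing.Tor A 1 X S.X₃ →ₗ[A] (X : Type u) ⊗[A] (S.X₁ : Type u),
      Function.Injective θ ∧ Function.Exact θ (S.f.hom.lTensor X) := by
  let e := (Groth.Agent.H9Misc.TorBalance.torSymm X S.X₃ 1).toLinearEquiv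
  let c := TensorProduct.comm A (S.X₁ : Type u) (X : Type u)
  let θ' : DRing.Tor A 1 S.X₃ X →ₗ[A] (S.X₁ : Type u) ⊗[A] (X : Type u) :=
    (TorBridge.KerNat.θ hS X).hom
  refine ⟨c.toLinearMap ∘ₗ θ' ∘ₗ e.toLinearMap,
    c.injective.comp ((TorBridge.KerNat.θ_injective hS X).comp e.injective), fun z => ?_⟩
  have hz := TorBridge.KerNat.θ_range hS X (c.symm z)
  have hc : ∀ t : (S.X₁ : Type u) ⊗[A] (X : Type u),
      S.f.hom.lTensor X (c t) = TensorProduct.comm A _ _ (S.f.hom.rTensor X t) := fun t => by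
    induction t with
    | zero => simp
    | tmul a b => simp [c]
    | add a b ha hb => simp [ha, hb]
  rw [← c.apply_symm_apply z, hc, LinearEquiv.map_eq_zero_iff]
  refine hz.trans ⟨?_, ?_⟩
  · rintro ⟨t, ht⟩
    exact ⟨e.symm t, congrArg c ((congrArg θ' (e.apply_symm_apply t)).trans ht)⟩
  · rintro ⟨t, ht⟩
    exact ⟨e t, c.injective ht⟩

end Groth.Agent.Der55.Kun
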