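import Groth.Agent.Der55.Kun.Resol
import Groth.Agent.Der55.Kun.Exact
import Groth.Agent.Der55.Kun.TorShift
import Groth.Agent.Der55.Kun.SubQ
import Groth.Agent.KFlatLib.ModuleFlat

/-!
# One step of the Künneth filtration
-/

set_option autoImplicit false
set_option linter.style.haveILetI false
universe u

open CategoryTheory CategoryTheory.Limits MonoidalCategory TensorProduct

namespace Groth.Agent.Der55.Kun

variable {A : Type u} [CommRing A] {L : DRing.Cx A}

/-- A short exact sequence of complexes suitable for the Künneth induction. -/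
structure IsStep (L : DRing.Cx A) (S : ShortComplex (DRing.Cx A)) : Prop where
  shortExact : S.ShortExact
  surjective : ∀ j, Function.Surjective (HomologicalComplex.homologyMap S.g j).hom
  flat : ∀ j, Module.Flat A (S.X₂.homology j)
  bijective : ∀ n, Function.Bijective (kun L S.X₂ n)

theorem sumMap_surjective {M M' : DRing.Cx A} (φ : M ⟶ M')
    (h : ∀ j, Function.Surjective (HomologicalComplex.homologyMap φ j).hom) (n : ℤ) :
    Function.Surjective (sumMap L φ n) := fun v =>
  mem_range_lmap _ v fun ij => LinearMap.lTensor_surjective _ (h ij.1.2) _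

theorem exists_step (hL : DRing.TermwiseFlat L) {bL : ℤ} (hbL : DRing.VanishesAbove L bL)
    (M : DRing.Cx A) {b : ℤ} (hb : DRing.VanishesAbove M b) :
    ∃ (M₁ : DRing.Cx A) (_ : DRing.VanishesAbove M₁ b) (P : DRing.Cx A) (i : M₁ ⟶ P) (g : P ⟶ M)
      (w : i ≫ g = 0), IsStep L (ShortComplex.mk i g w) := by
  haveI : ∀ k, Epi ((toM M b).f k) := fun k =>
    (ModuleCat.epi_iff_surjective _).2 (toM_surjective hb k)
  haveI : Epi (toM M b) := HomologicalComplex.epi_of_epi_f _ inferInstance
  have hS : (ShortComplex.mk (kernel.ι (toM M b)) (toM M b) (kernel.condition _)).ShortExact :=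
    { exact := ShortComplex.exact_of_f_is_kernel _ (kernelIsKernel _) }
  refine ⟨kernel (toM M b), fun k hk => ?_, pCx M b, kernel.ι (toM M b), toM M b, kernel.condition _,
    hS, homologyMap_toM_surjective M b, fun j => ?_, fun n => ?_⟩
  · have := (hS.map_of_exact (HomologicalComplex.eval _ _ k)).mono_f
    haveI : Mono ((kernel.ι (toM M b)).f k) := this
    exact IsZero.of_mono ((kernel.ι (toM M b)).f k) (vanishesAbove_pCx hb k hk)
  · let e : (qCx M).X j ≃ₗ[A] (pCx M b).homology j :=
      (cycEquiv (qCx M) (qCx_d M) j).symm ≪≫ₗ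
        LinearEquiv.ofBijective ((qCx M).homologyπ j).hom ⟨fun z z' hzz' => by
          rw [← sub_eq_zero, ← map_sub, homologyπ_eq_zero_iff (qCx M) (j - 1) (by omega)] at hzz'
          obtain ⟨x, hx⟩ := hzz'
          rw [qCx_d] at hx
          exact sub_eq_zero.1 (iCycles_injective _ j (hx.symm.trans (map_zero _).symm)),
          homologyπ_surjective _ j⟩ ≪≫ₗ
        LinearEquiv.ofBijective (HomologicalComplex.homologyMap (inlCx M b) j).hom
          (homologyMap_inlCx_bijective M b j)
    haveI : Module.Flat A ((qCx M).X j) := inferInstanceAs (Module.Flat A (QIdx M j →₀ A))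
    exact Module.Flat.of_linearEquiv e.symm
  · haveI := quasiIso_inlCx M b
    haveI : QuasiIso (lmap L (inlCx M b)) :=
      KFlatLib.quasiIso_tensorHom_id _ (KFlatLib.kFlat_of_termwiseFlat hL hbL)
    have h1 : Function.Bijective (kun L (qCx M) n) := kun_bijective_of_d_eq_zero L (qCx M) (qCx_d M)
      (fun j => inferInstanceAs (Module.Flat A (QIdx M j →₀ A))) n
    have h2 : Function.Bijective (HomologicalComplex.homologyMap (lmap L (inlCx M b)) n).hom :=
      ConcreteCategory.bijective_of_isIso _
    have h3 : Function.Bijective (sumMap L (inlCx M b) n) := by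
      refine ⟨?_, sumMap_surjective _ (fun j => (homologyMap_inlCx_bijective M b j).2) n⟩
      intro v v' h
      refine DFinsupp.ext fun ij => (TensorProduct.congr (LinearEquiv.refl A (L.homology ij.1.1))
        (LinearEquiv.ofBijective (HomologicalComplex.homologyMap (inlCx M b) ij.1.2).hom
          (homologyMap_inlCx_bijective M b ij.1.2))).injective ?_
      exact congrArg (fun t => DirectSum.component A _ _ ij t) h
    have h4 := congrArg DFunLike.coe (kun_natural L (inlCx M b) n)
    rw [LinearMap.coe_comp, LinearMap.coe_comp] at h4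
    exact (Function.Bijective.of_comp_iff _ h3).1 (h4 ▸ h2.comp h1)

namespace IsStep

variable {S : ShortComplex (DRing.Cx A)} (h : IsStep L S) (hL : DRing.TermwiseFlat L)

/-- The connecting map. -/
noncomputable def δ (n : ℤ) :
    (HTor.tensorCx L S.X₃).homology n →ₗ[A] (HTor.tensorCx L S.X₁).homology (n + 1) :=
  ((tensorSC_shortExact L hL h.shortExact).δ n (n + 1) rfl).hom

include h hL in
theorem ker_δ (n : ℤ) : LinearMap.ker (h.δ hL n) = LinearMap.range (kun L S.X₃ n) := by
  have he := (ShortComplex.ShortExact.moduleCat_exact_iff_function_exact _).1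
    ((tensorSC_shortExact L hL h.shortExact).homology_exact₃ n (n + 1) rfl)
  refine (LinearMap.exact_iff.1 he).trans ?_
  show LinearMap.range (HomologicalComplex.homologyMap (lmap L S.g) n).hom = _
  rw [← LinearMap.range_comp_of_range_eq_top _ (LinearMap.range_eq_top.2 (h.bijective n).2),
    kun_natural, LinearMap.range_comp_of_range_eq_top _
      (LinearMap.range_eq_top.2 (sumMap_surjective S.g h.surjective n))]

include h hL in
theorem range_δ (n : ℤ) : LinearMap.range (h.δ hL n) =
    LinearMap.ker (HomologicalComplex.homologyMap (lmap L S.f) (n + 1)).hom :=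
  (LinearMap.exact_iff.1 ((ShortComplex.ShortExact.moduleCat_exact_iff_function_exact _).1
    ((tensorSC_shortExact L hL h.shortExact).homology_exact₁ n (n + 1) rfl))).symm

include h in
theorem shortExact_homology (j : ℤ) :
    (ShortComplex.mk (HomologicalComplex.homologyMap S.f j) (HomologicalComplex.homologyMap S.g j)
      (by rw [← HomologicalComplex.homologyMap_comp, S.zero,
        HomologicalComplex.homologyMap_zero])).ShortExact := by
  refine { exact := h.shortExact.homology_exact₂ j, mono_f := ?_, epi_g := ?_ }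
  · refine (ModuleCat.mono_iff_injective _).2 ?_
    rw [injective_iff_map_eq_zero]
    intro x hx
    obtain ⟨y, rfl⟩ := ((ShortComplex.ShortExact.moduleCat_exact_iff_function_exact _).1
      (h.shortExact.homology_exact₁ (j - 1) j (by simp)) x).1 hx
    obtain ⟨z, rfl⟩ := h.surjective (j - 1) y
    exact congrArg (fun g => g.hom z) (h.shortExact.comp_δ (j - 1) j (by simp))
  · exact (ModuleCat.epi_iff_surjective _).2 (h.surjective j)

include h hL in
theorem exists_tor_one (n : ℤ) :
    ∃ ψ : HTor.TorSum L S.X₃ n 1 →ₗ[A] (HTor.tensorCx L S.X₁).homology (n + 1),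
      LinearMap.range ψ = LinearMap.range (kun L S.X₁ (n + 1)) ⊓ LinearMap.range (h.δ hL n) := by
  have hθ : ∀ i j : ℤ, ∃ θ : DRing.Tor A 1 (L.homology i) (S.X₃.homology j) →ₗ[A]
      L.homology i ⊗[A] S.X₁.homology j, Function.Exact θ
        ((HomologicalComplex.homologyMap S.f j).hom.lTensor (L.homology i)) := fun i j => by
    haveI : Module.Flat A (S.X₂.homology j) := h.flat j
    obtain ⟨θ, -, hθ⟩ := tor_one_ker (h.shortExact_homology j) (L.homology i)
    exact ⟨θ, hθ⟩
  choose θ hθ using hθ
  let Θ : HTor.TorSum L S.X₃ n 1 →ₗ[A] HTor.KunnethSum L S.X₁ (n + 1) :=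
    DirectSum.toModule A _ _ fun ij =>
      DirectSum.lof A (HTor.Antidiag (n + 1))
        (fun ij => L.homology ij.1.1 ⊗[A] S.X₁.homology ij.1.2)
        ⟨ij.1, by have := ij.2; simp at this ⊢; omega⟩ ∘ₗ θ ij.1.1 ij.1.2
  have hΘ : LinearMap.range Θ = LinearMap.ker (sumMap L S.f (n + 1)) := by
    refine le_antisymm ?_ fun v hv => ?_
    · rw [LinearMap.range_le_ker_iff]
      refine DirectSum.linearMap_ext A fun ij => LinearMap.ext fun t => ?_
      simp only [LinearMap.comp_apply, Θ, DirectSum.toModule_lof, sumMap, DirectSum.lmap_lof]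
      rw [(hθ ij.1.1 ij.1.2).apply_apply_eq_zero, map_zero]
      rfl
    · classical
      rw [← DirectSum.sum_support_of v]
      refine Submodule.sum_mem _ fun ij _ => ?_
      obtain ⟨t, ht⟩ := (hθ ij.1.1 ij.1.2 (v ij)).1
        (congrArg (fun w => DirectSum.component A _ _ ij w) (LinearMap.mem_ker.1 hv))
      refine ⟨DirectSum.lof A _ _ (⟨ij.1, by have := ij.2; simp; omega⟩ :
        {ij : ℤ × ℤ // ij.1 + ij.2 - ((1 : ℕ) : ℤ) = n}) t, ?_⟩
      simp only [Θ, DirectSum.toModule_lof, LinearMap.comp_apply, ht]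
      rfl
  refine ⟨kun L S.X₁ (n + 1) ∘ₗ Θ, ?_⟩
  rw [LinearMap.range_comp, hΘ, h.range_δ hL n]
  ext x
  constructor
  · rintro ⟨v, hv, rfl⟩
    refine ⟨⟨v, rfl⟩, ?_⟩
    have := LinearMap.congr_fun (kun_natural L S.f (n + 1)) v
    simp only [LinearMap.comp_apply] at this
    rw [LinearMap.mem_ker.1 hv, map_zero] at this
    exact this
  · rintro ⟨⟨v, rfl⟩, hx⟩
    refine ⟨v, (h.bijective (n + 1)).1 ?_, rfl⟩
    have := LinearMap.congr_fun (kun_natural L S.f (n + 1)) v
    simp only [LinearMap.comp_apply] at this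
    exact this.symm.trans ((LinearMap.mem_ker.1 hx).trans (map_zero _).symm)

end IsStep

/-- Reindexing a direct sum over subtypes. -/
theorem nonempty_subtypeSumEquiv {ι : Type*} {P Q : ι → Prop} (hPQ : ∀ i, P i ↔ Q i)
    {M N : ι → Type u} [∀ i, AddCommGroup (M i)] [∀ i, Module A (M i)] [∀ i, AddCommGroup (N i)]
    [∀ i, Module A (N i)] (e : ∀ i, Nonempty (M i ≃ₗ[A] N i)) :
    Nonempty (DirectSum {i // P i} (fun i => M i.1) ≃ₗ[A] DirectSum {i // Q i} (fun i => N i.1)) := by
  classical
  refine ⟨LinearEquiv.ofLinearMap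
    (DirectSum.toModule A _ _ fun i => DirectSum.lof A {i // Q i} (fun i => N i.1)
      ⟨i.1, (hPQ _).1 i.2⟩ ∘ₗ (e i.1).some.toLinearMap)
    (DirectSum.toModule A _ _ fun i => DirectSum.lof A {i // P i} (fun i => M i.1)
      ⟨i.1, (hPQ _).2 i.2⟩ ∘ₗ (e i.1).some.symm.toLinearMap) ?_ ?_⟩
  · refine DirectSum.linearMap_ext A fun i => LinearMap.ext fun t => ?_
    simp [DirectSum.toModule_lof]
  · refine DirectSum.linearMap_ext A fun i => LinearMap.ext fun t => ?_
    simp [DirectSum.toModule_lof]

theorem IsStep.torSum_shift {S : ShortComplex (DRing.Cx A)} (h : IsStep L S) (n : ℤ) (p : ℕ) :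
    Nonempty (HTor.TorSum L S.X₁ (n + 1) (p + 1) ≃ₗ[A] HTor.TorSum L S.X₃ n (p + 2)) := by
  refine nonempty_subtypeSumEquiv (P := fun ij : ℤ × ℤ => ij.1 + ij.2 - ((p + 1 : ℕ) : ℤ) = n + 1)
    (Q := fun ij : ℤ × ℤ => ij.1 + ij.2 - ((p + 2 : ℕ) : ℤ) = n)
    (M := fun ij => DRing.Tor A (p + 1) (L.homology ij.1) (S.X₁.homology ij.2))
    (N := fun ij => DRing.Tor A (p + 2) (L.homology ij.1) (S.X₃.homology ij.2))
    (fun ij => by constructor <;> intro e <;> push_cast at e ⊢ <;> omega) fun ij => ?_
  haveI : Module.Flat A (S.X₂.homology ij.2) := h.flat ij.2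
  exact tor_shift (h.shortExact_homology ij.2) (L.homology ij.1) p

end Groth.Agent.Der55.Kun
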