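import Groth.Agent.Der55.Kun.Map
import Mathlib.RingTheory.Flat.Basic

/-!
# The Künneth map for a complex of flat modules with zero differential
-/

set_option autoImplicit false
set_option linter.style.haveILetI false
universe u

open CategoryTheory CategoryTheory.Limits MonoidalCategory TensorProduct

namespace Groth.Agent.Der55.Kun

variable {A : Type u} [CommRing A] (K L : DRing.Cx A)

/-- The terms of the total complex as a direct sum. -/
abbrev XSum (n : ℤ) : Type u :=
  DirectSum (HTor.Antidiag n) fun ij => K.X ij.1.1 ⊗[A] L.X ij.1.2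

/-- From the direct sum to the term of the total complex. -/
noncomputable def fromSum (n : ℤ) : XSum K L n →ₗ[A] (HTor.tensorCx K L).X n :=
  DirectSum.toModule A _ _ fun ij => tmι K L ij.1.1 ij.1.2 n ij.2

/-- From the term of the total complex to the direct sum. -/
noncomputable def toSum (n : ℤ) : (HTor.tensorCx K L).X n →ₗ[A] XSum K L n :=
  (HomologicalComplex.mapBifunctorDesc (K₁ := K) (K₂ := L) (F := curriedTensor (ModuleCat.{u} A))
    (c := ComplexShape.up ℤ) (j := n) (A := ModuleCat.of A (XSum K L n)) fun i j h =>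
      ModuleCat.ofHom (DirectSum.lof A (HTor.Antidiag n) (fun ij => K.X ij.1.1 ⊗[A] L.X ij.1.2)
        ⟨(i, j), h⟩)).hom

theorem fromSum_lof (n : ℤ) (ij : HTor.Antidiag n) (t : K.X ij.1.1 ⊗[A] L.X ij.1.2) :
    fromSum K L n (DirectSum.lof A (HTor.Antidiag n) (fun ij => K.X ij.1.1 ⊗[A] L.X ij.1.2) ij t) =
      tmι K L ij.1.1 ij.1.2 n ij.2 t :=
  DirectSum.toModule_lof A (φ := fun ij : HTor.Antidiag n => tmι K L ij.1.1 ij.1.2 n ij.2) ij t

theorem toSum_tm {i j : ℤ} (n : ℤ) (h : i + j = n) (x : K.X i) (y : L.X j) :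
    toSum K L n (tm K L n h x y) = DirectSum.lof A (HTor.Antidiag n)
      (fun ij => K.X ij.1.1 ⊗[A] L.X ij.1.2) ⟨(i, j), h⟩ (x ⊗ₜ[A] y) :=
  congrArg (fun g => g.hom (x ⊗ₜ[A] y))
    (HomologicalComplex.ι_mapBifunctorDesc (K₁ := K) (K₂ := L) (F := curriedTensor (ModuleCat.{u} A))
    (c := ComplexShape.up ℤ) (j := n) (A := ModuleCat.of A (XSum K L n)) (fun i j h =>
      ModuleCat.ofHom (DirectSum.lof A (HTor.Antidiag n) (fun ij => K.X ij.1.1 ⊗[A] L.X ij.1.2)
        ⟨(i, j), h⟩)) i j h)

theorem fromSum_toSum (n : ℤ) (w : (HTor.tensorCx K L).X n) : fromSum K L n (toSum K L n w) = w := by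
  have : fromSum K L n ∘ₗ toSum K L n = LinearMap.id := hom_ext_tm K L fun i j h x y => by
    rw [LinearMap.comp_apply, toSum_tm, fromSum_lof]; rfl
  exact LinearMap.congr_fun this w

theorem toSum_fromSum (n : ℤ) (v : XSum K L n) : toSum K L n (fromSum K L n v) = v := by
  have : toSum K L n ∘ₗ fromSum K L n = LinearMap.id :=
    DirectSum.linearMap_ext A fun ij => TensorProduct.ext' fun x y => by
      simp only [LinearMap.comp_apply]
      rw [fromSum_lof]
      exact toSum_tm K L n ij.2 x y
  exact LinearMap.congr_fun this v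

/-- For `d_L = 0` the differential of the total complex is `d ⊗ 1` on components. -/
theorem component_d (hd : ∀ a b, L.d a b = 0) {i i' j : ℤ} (n n' : ℤ) (h : i + j = n)
    (hi : i + 1 = i') (hn : n + 1 = n') (w : (HTor.tensorCx K L).X n) :
    DirectSum.component A (HTor.Antidiag n') (fun ij => K.X ij.1.1 ⊗[A] L.X ij.1.2)
        ⟨(i', j), by omega⟩ (toSum K L n' ((HTor.tensorCx K L).d n n' w)) =
      LinearMap.rTensor (L.X j) (K.d i i').hom
        (DirectSum.component A (HTor.Antidiag n) (fun ij => K.X ij.1.1 ⊗[A] L.X ij.1.2)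
          ⟨(i, j), h⟩ (toSum K L n w)) := by
  have : (DirectSum.component A (HTor.Antidiag n') (fun ij => K.X ij.1.1 ⊗[A] L.X ij.1.2)
        ⟨(i', j), by omega⟩ ∘ₗ toSum K L n') ∘ₗ ((HTor.tensorCx K L).d n n').hom =
      LinearMap.rTensor (L.X j) (K.d i i').hom ∘ₗ
        (DirectSum.component A (HTor.Antidiag n) (fun ij => K.X ij.1.1 ⊗[A] L.X ij.1.2)
          ⟨(i, j), h⟩ ∘ₗ toSum K L n) := hom_ext_tm K L fun a b hab x y => by
    simp only [LinearMap.comp_apply]
    rw [d_tm K L n n' hab hn, hd, toSum_tm]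
    simp only [ModuleCat.hom_zero, LinearMap.zero_apply]
    rw [zsmul_eq_zero_right (A := A) _ (by simp [tm]), toSum_tm]
    by_cases hia : a = i
    · subst hia
      obtain rfl : b = j := by omega
      subst hi
      rw [DirectSum.component.lof_self, DirectSum.component.lof_self, LinearMap.rTensor_tmul]
    · rw [DirectSum.component.of, dif_neg, DirectSum.component.of, dif_neg, map_zero]
      · intro e; exact hia (congrArg (fun ij : HTor.Antidiag n => ij.1.1) e)
      · intro e; apply hia
        have := congrArg (fun ij : HTor.Antidiag n' => ij.1.1) e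
        simp at this; omega
  exact LinearMap.congr_fun this w

theorem mem_range_lmap {ι : Type*} {M N : ι → Type*} [∀ i, AddCommGroup (M i)] [∀ i, Module A (M i)]
    [∀ i, AddCommGroup (N i)] [∀ i, Module A (N i)] (f : ∀ i, M i →ₗ[A] N i) (v : DirectSum ι N)
    (hv : ∀ i, DirectSum.component A ι N i v ∈ LinearMap.range (f i)) :
    v ∈ LinearMap.range (DirectSum.lmap f) := by
  classical
  rw [← DirectSum.sum_support_of v]
  refine Submodule.sum_mem _ fun i _ => ?_
  obtain ⟨x, hx⟩ := hv i
  refine ⟨DirectSum.lof A ι M i x, ?_⟩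
  rw [DirectSum.lmap_lof, hx]
  rfl

section

variable (hd : ∀ a b, L.d a b = 0)

include hd in
theorem isIso_iCycles (j : ℤ) : Function.Bijective (L.iCycles j).hom :=
  ⟨iCycles_injective L j, fun y => exists_cycle L y (by rw [hd]; rfl)⟩

/-- A term of a complex with zero differential as its cycles. -/
noncomputable def cycEquiv (j : ℤ) : L.cycles j ≃ₗ[A] L.X j :=
  LinearEquiv.ofBijective (L.iCycles j).hom (isIso_iCycles L hd j)

/-- Sums of products of cycles. -/
noncomputable def incl (n : ℤ) :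
    DirectSum (HTor.Antidiag n) (fun ij => K.cycles ij.1.1 ⊗[A] L.X ij.1.2) →ₗ[A] XSum K L n :=
  DirectSum.lmap fun ij => LinearMap.rTensor _ (K.iCycles ij.1.1).hom

/-- Their homology classes. -/
noncomputable def qmap (n : ℤ) :
    DirectSum (HTor.Antidiag n) (fun ij => K.cycles ij.1.1 ⊗[A] L.X ij.1.2) →ₗ[A]
      HTor.KunnethSum K L n :=
  DirectSum.lmap fun ij => TensorProduct.map (K.homologyπ ij.1.1).hom
    ((L.homologyπ ij.1.2).hom ∘ₗ (cycEquiv L hd ij.1.2).symm.toLinearMap)

theorem qmap_surjective (n : ℤ) : Function.Surjective (qmap K L hd n) := fun v =>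
  mem_range_lmap _ v fun ij => TensorProduct.map_surjective (homologyπ_surjective K _)
    (fun y => by
      obtain ⟨z, rfl⟩ := homologyπ_surjective L _ y
      exact ⟨cycEquiv L hd ij.1.2 z, by simp⟩) _

/-- The cycle of a sum of products of cycles. -/
noncomputable def zsum (n : ℤ) :
    DirectSum (HTor.Antidiag n) (fun ij => K.cycles ij.1.1 ⊗[A] L.X ij.1.2) →ₗ[A]
      (HTor.tensorCx K L).cycles n :=
  DirectSum.toModule A _ _ fun ij =>
    zz K L ij.1.1 ij.1.2 n ij.2 ∘ₗ LinearMap.lTensor _ (cycEquiv L hd ij.1.2).symm.toLinearMap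

theorem kun_qmap (n : ℤ)
    (u : DirectSum (HTor.Antidiag n) fun ij => K.cycles ij.1.1 ⊗[A] L.X ij.1.2) :
    kun K L n (qmap K L hd n u) = (HTor.tensorCx K L).homologyπ n (zsum K L hd n u) := by
  have : kun K L n ∘ₗ qmap K L hd n =
      ((HTor.tensorCx K L).homologyπ n).hom ∘ₗ zsum K L hd n :=
    DirectSum.linearMap_ext A fun ij => TensorProduct.ext' fun z y => by
      simp only [LinearMap.comp_apply, qmap, zsum, DirectSum.lmap_lof, DirectSum.toModule_lof,
        TensorProduct.map_tmul, LinearMap.lTensor_tmul]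
      rw [kun_lof]
      exact kunC_tmul K L _ _ n ij.2 z _
  exact LinearMap.congr_fun this u

theorem iCycles_zsum (n : ℤ)
    (u : DirectSum (HTor.Antidiag n) fun ij => K.cycles ij.1.1 ⊗[A] L.X ij.1.2) :
    (HTor.tensorCx K L).iCycles n (zsum K L hd n u) = fromSum K L n (incl K L n u) := by
  have : ((HTor.tensorCx K L).iCycles n).hom ∘ₗ zsum K L hd n = fromSum K L n ∘ₗ incl K L n :=
    DirectSum.linearMap_ext A fun ij => TensorProduct.ext' fun z y => by
      simp only [LinearMap.comp_apply, incl, zsum, DirectSum.lmap_lof, DirectSum.toModule_lof,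
        LinearMap.lTensor_tmul, LinearMap.rTensor_tmul]
      rw [fromSum_lof]
      refine (iCycles_zz K L n ij.2 z _).trans ?_
      show tm K L n ij.2 _ (cycEquiv L hd ij.1.2 ((cycEquiv L hd ij.1.2).symm y)) = _
      rw [LinearEquiv.apply_symm_apply]; rfl
  exact LinearMap.congr_fun this u

theorem exact_iCycles_d (i : ℤ) :
    Function.Exact (K.iCycles i).hom (K.d i (i + 1)).hom := fun x =>
  ⟨fun hx => exists_cycle K x hx, by rintro ⟨z, rfl⟩; exact d_iCycles K _ z⟩

include hd in
theorem kun_bijective_of_d_eq_zero (hflat : ∀ j, Module.Flat A (L.X j)) (n : ℤ) :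
    Function.Bijective (kun K L n) := by
  constructor
  · rw [injective_iff_map_eq_zero]
    intro x hx
    obtain ⟨u, rfl⟩ := qmap_surjective K L hd n x
    rw [kun_qmap, homologyπ_eq_zero_iff _ (n - 1) (by omega)] at hx
    obtain ⟨v, hv⟩ := hx
    rw [iCycles_zsum] at hv
    refine DFinsupp.ext fun ij => ?_
    obtain ⟨⟨i, j⟩, hij⟩ := ij
    haveI := hflat j
    let v' := DirectSum.component A (HTor.Antidiag (n - 1))
      (fun ij => K.X ij.1.1 ⊗[A] L.X ij.1.2) ⟨(i - 1, j), by omega⟩ (toSum K L (n - 1) v)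
    have h1 := component_d K L hd (i := i - 1) (i' := i) (j := j) (n - 1) n (by omega) (by omega)
      (by omega) v
    rw [hv, toSum_fromSum] at h1
    have h2 : DirectSum.component A (HTor.Antidiag n) (fun ij => K.cycles ij.1.1 ⊗[A] L.X ij.1.2) ⟨(i, j), hij⟩ u = LinearMap.rTensor (L.X j) (K.toCycles (i - 1) i).hom v' := by
      refine Module.Flat.rTensor_preserves_injective_linearMap (M := L.X j) _
        (iCycles_injective K i) ?_
      refine Eq.trans ?_ (LinearMap.rTensor_comp_apply _ _ _ v')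
      refine Eq.trans ?_ (h1.trans (congrArg (fun g => LinearMap.rTensor (L.X j) g v') ?_))
      · exact (DirectSum.lmap_apply
          (fun ij : HTor.Antidiag n => LinearMap.rTensor (L.X ij.1.2) (K.iCycles ij.1.1).hom)
          u ⟨(i, j), hij⟩).symm
      · exact congrArg (fun g => g.hom) (K.toCycles_i (i - 1) i).symm
    show DirectSum.component A (HTor.Antidiag n) _ ⟨(i, j), hij⟩ (qmap K L hd n u) = 0
    refine (DirectSum.lmap_apply (fun ij : HTor.Antidiag n => TensorProduct.map (K.homologyπ ij.1.1).hom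
      ((L.homologyπ ij.1.2).hom ∘ₗ (cycEquiv L hd ij.1.2).symm.toLinearMap)) u
      (⟨(i, j), hij⟩ : HTor.Antidiag n)).trans ?_
    show TensorProduct.map _ _ (DirectSum.component A (HTor.Antidiag n) (fun ij => K.cycles ij.1.1 ⊗[A] L.X ij.1.2) ⟨(i, j), hij⟩ u) = 0
    rw [h2, ← LinearMap.comp_apply, LinearMap.map_comp_rTensor,
      show (K.homologyπ i).hom ∘ₗ (K.toCycles (i - 1) i).hom = 0 from
        congrArg (fun g => g.hom) (K.toCycles_comp_homologyπ (i - 1) i)]
    simp
  · intro h
    obtain ⟨w, rfl⟩ := homologyπ_surjective (HTor.tensorCx K L) n h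
    obtain ⟨u, hu⟩ : toSum K L n ((HTor.tensorCx K L).iCycles n w) ∈
        LinearMap.range (incl K L n) := by
      refine mem_range_lmap _ _ fun ij => ?_
      haveI := hflat ij.1.2
      refine (Module.Flat.rTensor_exact (L.X ij.1.2) (exact_iCycles_d K ij.1.1) _).1 ?_
      refine (component_d K L hd n (n + 1) ij.2 rfl rfl _).symm.trans ?_
      rw [d_iCycles, map_zero, map_zero]
    refine ⟨qmap K L hd n u, ?_⟩
    rw [kun_qmap]
    congr 1
    refine iCycles_injective _ n ?_
    rw [iCycles_zsum, hu, fromSum_toSum]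

end

end Groth.Agent.Der55.Kun
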